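import Mathlib
import Cfsg.Agent.H475.KGL.Rows
import Cfsg.Agent.OddOrderLocal.RankTwoFitting
import Cfsg.Agent.Classification.ThreePrimes
import Cfsg.Agent.OrdDiv.Main

/-!
# Project KGL (helper660): tools for irreducible groups of isometries over `F_2`

* `pCore_eq_bot` : `O_r(H) = 1` if `H` is irreducible on `V` and `|V|` is not congruent to `1` modulo `r`;
* `semiregular` : elements commuting with an irreducible element of prime order have no fixed vectors;
* `kc_le_syl` : `k(G) ≤ |C(P)| + |G| / r` for `P` a Sylow `r`-subgroup;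
* `solvable_of_dvd` : solvability from the divisibility order engine.
-/

set_option autoImplicit false

namespace Cfsg.Agent.H660.KGL

open Subgroup Cfsg Cfsg.Agent.H475.KGL Cfsg.Agent.Lib.Cores

section Lin

variable {p : ℕ} {V : Type*} [AddCommGroup V] [Module (ZMod p) V] [Finite V]

/-- The fixed vectors of a subgroup. -/
def fix (P : Subgroup (V ≃ₗ[ZMod p] V)) : Submodule (ZMod p) V where
  carrier := {v | ∀ g ∈ P, g v = v}
  zero_mem' := fun g _ => map_zero g
  add_mem' := fun {a b} ha hb g hg => by rw [map_add, ha g hg, hb g hg]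
  smul_mem' := fun c a ha g hg => by rw [map_smul, ha g hg]

omit [Finite V] in
theorem mem_fix {P : Subgroup (V ≃ₗ[ZMod p] V)} {v : V} : v ∈ fix P ↔ ∀ g ∈ P, g v = v := Iff.rfl

/-- The number of fixed vectors of an `r`-group. -/
theorem card_fix {r : ℕ} [Fact r.Prime] {P : Subgroup (V ≃ₗ[ZMod p] V)} (hP : IsPGroup r P) :
    Nat.card V ≡ Nat.card (fix P) [MOD r] := by
  have h := hP.card_modEq_card_fixedPoints V
  have h1 : (MulAction.fixedPoints P V : Set V) = (fix P : Set V) := by
    ext v
    constructor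
    · intro hv g hg
      exact hv ⟨g, hg⟩
    · intro hv g
      exact hv g.1 g.2
  rw [h1] at h
  exact h

/-- `O_r(H) = 1` if `H` is irreducible on `V` and `|V|` is not congruent to `1` modulo `r`. -/
theorem eq_bot_of_irr {H : Subgroup (V ≃ₗ[ZMod p] V)} (hI : Irr H) {r : ℕ} [Fact r.Prime]
    (hr : ¬ Nat.card V ≡ 1 [MOD r]) {P : Subgroup H} (hn : P.Normal) (hP : IsPGroup r P) : P = ⊥ := by
  set Q : Subgroup (V ≃ₗ[ZMod p] V) := P.map H.subtype with hQ
  have hQP : IsPGroup r Q := hP.map _
  have hinv : ∀ g ∈ H, ∀ u ∈ fix Q, g u ∈ fix Q := by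
    intro g hg u hu x hx
    obtain ⟨y, hy, rfl⟩ := hx
    have h1 : (⟨g, hg⟩ : H)⁻¹ * y * ⟨g, hg⟩ ∈ P := by
      have := hn.conj_mem y hy (⟨g, hg⟩ : H)⁻¹
      rwa [inv_inv] at this
    have h2 := hu _ ⟨_, h1, rfl⟩
    have h3 : (g⁻¹ * (y : V ≃ₗ[ZMod p] V) * g) u = u := h2
    have h4 : g ((g⁻¹ * (y : V ≃ₗ[ZMod p] V) * g) u) = (y : V ≃ₗ[ZMod p] V) (g u) := by
      rw [← LinearEquiv.mul_apply, ← LinearEquiv.mul_apply]
      congr 1
      group
    rw [h3] at h4
    exact h4.symm
  rcases hI _ hinv with h | h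
  · exfalso
    apply hr
    have h1 := card_fix hQP
    rw [h] at h1
    have h2 : Nat.card (⊥ : Submodule (ZMod p) V) = 1 := by simp
    rwa [h2] at h1
  · rw [eq_bot_iff]
    intro x hx
    rw [mem_bot]
    apply Subtype.ext
    ext v
    have hv : v ∈ fix Q := by rw [h]; trivial
    exact hv _ ⟨x, hx, rfl⟩

theorem pCore_eq_bot {H : Subgroup (V ≃ₗ[ZMod p] V)} (hI : Irr H) {r : ℕ} [Fact r.Prime]
    (hr : ¬ Nat.card V ≡ 1 [MOD r]) : pCore r ↥H = ⊥ :=
  eq_bot_of_irr hI hr inferInstance (pCore_isPGroup r)

/-- **Semiregular centraliser.** `x` has prime order `r` and no proper nonzero subspace of `V` has `1` modulo `r`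
elements; elements commuting with `x` and fixing a nonzero vector are trivial. -/
theorem semiregular {r : ℕ} [Fact r.Prime] (hc : ∀ U : Submodule (ZMod p) V, Nat.card U ≡ 1 [MOD r] →
    U = ⊥ ∨ U = ⊤) (hV : Nat.card V ≡ 1 [MOD r]) {x : V ≃ₗ[ZMod p] V} (hx : orderOf x = r)
    {c : V ≃ₗ[ZMod p] V} (hcx : c * x = x * c) {v : V} (hv : v ≠ 0) (hcv : c v = v) : c = 1 := by
  have hx1 : x ≠ 1 := by
    rintro rfl
    rw [orderOf_one] at hx
    exact (Fact.out : r.Prime).one_lt.ne hx
  have hP : IsPGroup r (zpowers x) := by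
    apply IsPGroup.of_card (n := 1)
    rw [Nat.card_zpowers, hx, pow_one]
  -- the fixed vectors of `x`
  have h0 : fix (zpowers x) = ⊥ := by
    rcases hc _ ((card_fix hP).symm.trans hV) with h | h
    · exact h
    · exfalso
      apply hx1
      ext w
      have hw : w ∈ fix (zpowers x) := by rw [h]; trivial
      exact hw x (mem_zpowers x)
  -- the fixed vectors of `c` form an `x`-invariant subspace
  set U := fix (zpowers c) with hU
  have hmemU : ∀ w, w ∈ U ↔ c w = w := by
    intro w
    constructor
    · intro h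
      exact h c (mem_zpowers c)
    · intro h g hg
      obtain ⟨k, rfl⟩ := hg
      have h1 : c ∈ MulAction.stabilizer (V ≃ₗ[ZMod p] V) w := h
      exact (MulAction.stabilizer (V ≃ₗ[ZMod p] V) w).zpow_mem h1 k
  have hinv : ∀ g ∈ zpowers x, ∀ u ∈ U, g u ∈ U := by
    intro g hg u hu
    rw [hmemU] at hu ⊢
    obtain ⟨k, rfl⟩ := hg
    have h1 : Commute c (x ^ k) := (show Commute c x from hcx).zpow_right k
    have h2 : (c * x ^ k) u = (x ^ k * c) u := by rw [h1.eq]
    rw [LinearEquiv.mul_apply, LinearEquiv.mul_apply, hu] at h2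
    exact h2
  let act : MulAction (zpowers x) U :=
    { smul := fun g u => ⟨g.1 u.1, hinv g.1 g.2 u.1 u.2⟩
      one_smul := fun u => Subtype.ext rfl
      mul_smul := fun g h u => Subtype.ext rfl }
  have h1 := hP.card_modEq_card_fixedPoints U
  have h2 : Nat.card (MulAction.fixedPoints (zpowers x) U) = 1 := by
    rw [Nat.card_eq_one_iff_unique]
    refine ⟨⟨?_⟩, ⟨⟨0, fun g => Subtype.ext (map_zero g.1)⟩⟩⟩
    have key : ∀ a : MulAction.fixedPoints (zpowers x) U, (a.1 : V) = 0 := by
      intro a
      have h3 : (a.1 : V) ∈ fix (zpowers x) := by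
        intro g hg
        exact congrArg Subtype.val (a.2 ⟨g, hg⟩)
      rw [h0] at h3
      exact h3
    intro a b
    apply Subtype.ext
    apply Subtype.ext
    rw [key a, key b]
  rw [h2] at h1
  rcases hc U h1 with h | h
  · exfalso
    have h3 : v ∈ U := (hmemU v).2 hcv
    rw [h] at h3
    exact hv h3
  · ext w
    have hw : w ∈ U := by rw [h]; trivial
    exact (hmemU w).1 hw

/-- The order of a group commuting with `x`. -/
theorem card_le_of_commute {r : ℕ} [Fact r.Prime] (hc : ∀ U : Submodule (ZMod p) V, Nat.card U ≡ 1 [MOD r] →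
    U = ⊥ ∨ U = ⊤) (hV : Nat.card V ≡ 1 [MOD r]) {x : V ≃ₗ[ZMod p] V} (hx : orderOf x = r)
    {C : Type*} [Group C] (f : C →* (V ≃ₗ[ZMod p] V)) (hf : Function.Injective f)
    (hC : ∀ c : C, f c * x = x * f c) : Nat.card C ≤ Nat.card V - 1 := by
  classical
  have hnt : ∃ v : V, v ≠ 0 := by
    by_contra h
    push Not at h
    have h1 : x = 1 := by
      ext v
      rw [h v, map_zero, map_zero]
    rw [h1, orderOf_one] at hx
    exact (Fact.out : r.Prime).one_lt.ne hx
  obtain ⟨v, hv⟩ := hnt
  have hinj : Function.Injective (fun c : C => (⟨f c v, by simpa using hv⟩ : {w : V // w ≠ 0})) := by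
    intro c d h
    have h1 : f c v = f d v := congrArg Subtype.val h
    have h2 : f (d⁻¹ * c) = 1 := by
      refine semiregular hc hV hx (hC _) hv ?_
      rw [map_mul, LinearEquiv.mul_apply, h1, ← LinearEquiv.mul_apply, ← map_mul, inv_mul_cancel, map_one]
      rfl
    have h3 : d⁻¹ * c = 1 := hf (h2.trans (map_one f).symm)
    exact (inv_mul_eq_one.1 h3).symm
  have h1 := Nat.card_le_card_of_injective _ hinj
  have h2 : Nat.card {w : V // w ≠ 0} = Nat.card V - 1 := by
    have h3 : Nat.card {w : V // w ≠ 0} = ({0}ᶜ : Set V).ncard := by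
      rw [← Nat.card_coe_set_eq]
      rfl
    rw [h3, Set.ncard_compl, Set.ncard_singleton]
  rwa [h2] at h1

end Lin

/-! ### class numbers -/

theorem kc_le_card (G : Type*) [Group G] [Finite G] : kc G ≤ Nat.card G :=
  Nat.card_le_card_of_surjective ConjClasses.mk ConjClasses.mk_surjective

/-- Class numbers and Sylow subgroups. -/
theorem kc_le_syl {G : Type*} [Group G] [Finite G] {r : ℕ} [Fact r.Prime] (P : Sylow r G) :
    kc G ≤ Nat.card (centralizer ((P : Subgroup G) : Set G)) + Nat.card G / r := by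
  classical
  have : Fintype G := Fintype.ofFinite G
  have : Fintype (ConjClasses G) := Fintype.ofFinite _
  have hr : r.Prime := Fact.out
  let A : Set (ConjClasses G) := {c | ¬ r ∣ c.carrier.ncard}
  let B : Set (ConjClasses G) := {c | r ∣ c.carrier.ncard}
  have hAB : kc G = A.ncard + B.ncard := by
    have h1 : (A ∪ B).ncard = A.ncard + B.ncard :=
      Set.ncard_union_eq (Set.disjoint_left.2 fun c h1 h2 => h1 h2)
    have h2 : A ∪ B = Set.univ := by
      ext c
      simp only [Set.mem_univ, iff_true]
      by_cases h : r ∣ c.carrier.ncard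
      · exact Or.inr h
      · exact Or.inl h
    rw [h2, Set.ncard_univ] at h1
    exact h1
  have hA : A.ncard ≤ Nat.card (centralizer ((P : Subgroup G) : Set G)) := by
    have h1 : A ⊆ (fun c : centralizer ((P : Subgroup G) : Set G) => ConjClasses.mk (c : G)) '' Set.univ := by
      intro c hc
      obtain ⟨x, rfl⟩ := ConjClasses.mk_surjective c
      -- the index of the centraliser of `x` is prime to `r`
      have h2 : (ConjClasses.mk x).carrier.ncard = (centralizer {x}).index := by
        rw [← Nat.card_coe_set_eq, Subgroup.index]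
        have h3 := Subgroup.nat_card_centralizer_nat_card_stabilizer x
        have h4 : MulAction.orbit (ConjAct G) x = (ConjClasses.mk x).carrier := ConjAct.orbit_eq_carrier_conjClasses x
        have h5 := Nat.card_congr (MulAction.orbitEquivQuotientStabilizer (ConjAct G) x)
        rw [h4] at h5
        rw [h5]
        have h6 : Nat.card (ConjAct G ⧸ MulAction.stabilizer (ConjAct G) x) *
            Nat.card (MulAction.stabilizer (ConjAct G) x) = Nat.card G := by
          rw [← Subgroup.card_eq_card_quotient_mul_card_subgroup]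
          rfl
        have h7 : Nat.card (G ⧸ centralizer {x}) * Nat.card (centralizer {x}) = Nat.card G := by
          rw [← Subgroup.card_eq_card_quotient_mul_card_subgroup]
        rw [← h3] at h6
        exact Nat.eq_of_mul_eq_mul_right Nat.card_pos (h6.trans h7.symm)
      have h3 : ¬ r ∣ (centralizer {x} : Subgroup G).index := by
        rw [← h2]; exact hc
      -- a Sylow subgroup of `G` in the centraliser
      obtain ⟨Q⟩ : Nonempty (Sylow r (centralizer {x} : Subgroup G)) := inferInstance
      obtain ⟨R, hR⟩ := (Q.isPGroup'.map (centralizer {x} : Subgroup G).subtype).exists_le_sylow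
      have h4 : (Q : Subgroup (centralizer {x} : Subgroup G)).map (centralizer {x} : Subgroup G).subtype = R := by
        apply Subgroup.eq_of_le_of_card_ge hR
        rw [Subgroup.card_map_of_injective (Subgroup.subtype_injective _), Sylow.card_eq_multiplicity,
          Sylow.card_eq_multiplicity]
        apply Nat.pow_le_pow_right hr.pos
        have h5 := (centralizer {x} : Subgroup G).card_mul_index
        rw [← h5, Nat.factorization_mul Nat.card_pos.ne' (Subgroup.index_ne_zero_of_finite), Finsupp.add_apply,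
          Nat.factorization_eq_zero_of_not_dvd h3, add_zero]
      obtain ⟨g, hg⟩ := MulAction.exists_smul_eq G R P
      have h6 : ∀ y ∈ (R : Subgroup G), y * x = x * y := by
        intro y hy
        rw [← h4] at hy
        obtain ⟨z, -, rfl⟩ := hy
        exact (mem_centralizer_iff.1 z.2 x rfl).symm
      refine ⟨⟨g * x * g⁻¹, ?_⟩, trivial, ?_⟩
      · rw [mem_centralizer_iff]
        intro y hy
        rw [← hg] at hy
        obtain ⟨z, hz, hzy⟩ : ∃ z ∈ (R : Subgroup G), g * z * g⁻¹ = y := by
          have hy' : y ∈ ((g • R : Sylow r G) : Subgroup G) := hy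
          rw [Sylow.coe_subgroup_smul] at hy'
          obtain ⟨z, hz, hzy⟩ := hy'
          exact ⟨z, hz, by simpa using hzy⟩
        rw [← hzy]
        have := h6 z hz
        calc g * z * g⁻¹ * (g * x * g⁻¹) = g * (z * x) * g⁻¹ := by group
          _ = g * (x * z) * g⁻¹ := by rw [this]
          _ = g * x * g⁻¹ * (g * z * g⁻¹) := by group
      · show ConjClasses.mk (g * x * g⁻¹) = ConjClasses.mk x
        rw [ConjClasses.mk_eq_mk_iff_isConj]
        exact (isConj_iff.2 ⟨g, rfl⟩).symm
    calc A.ncard ≤ _ := Set.ncard_le_ncard h1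
      _ ≤ (Set.univ : Set (centralizer ((P : Subgroup G) : Set G))).ncard := Set.ncard_image_le
      _ = _ := Set.ncard_univ _
  have hB : B.ncard * r ≤ Nat.card G := by
    have h1 : ∑ c : ConjClasses G, c.carrier.ncard = Nat.card G := by
      have h2 := Group.sum_card_conj_classes_eq_card G
      rw [finsum_eq_sum_of_fintype] at h2
      exact h2
    have h3 : ∑ c ∈ B.toFinset, r ≤ ∑ c ∈ B.toFinset, c.carrier.ncard := by
      apply Finset.sum_le_sum
      intro c hc
      rw [Set.mem_toFinset] at hc
      refine Nat.le_of_dvd ?_ hc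
      rw [Set.ncard_pos]
      obtain ⟨x, rfl⟩ := ConjClasses.mk_surjective c
      exact ⟨x, ConjClasses.mem_carrier_mk⟩
    rw [Finset.sum_const, smul_eq_mul, ← Set.ncard_eq_toFinset_card'] at h3
    refine h3.trans (le_trans ?_ h1.le)
    exact Finset.sum_le_sum_of_subset (Finset.subset_univ _)
  rw [hAB]
  exact Nat.add_le_add hA ((Nat.le_div_iff_mul_le hr.pos).2 hB)

end Cfsg.Agent.H660.KGL
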