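import Cfsg.Agent.H660.KGL.Fix
import Cfsg.Agent.OrdDiv.Table

/-!
# Project KGL (helper660): solvability by the order, and orders of solvable groups with small cores
-/

set_option autoImplicit false

namespace Cfsg.Agent.H660.KGL

open Subgroup Cfsg Cfsg.Agent.H475.KGL Cfsg.Agent.Lib.Cores Cfsg.Agent.OrdDiv

/-- Solvability from the divisibility order engine. -/
theorem solvable_of_dvd (hS : ∀ (S : Type) [Group S] [Finite S] [IsSimpleGroup S], IsKnownSimple' S)
    {l : List (ℕ × ℕ)} {N : ℕ} (hv : valid l N = true) (hc : cands l N = []) {G : Type} [Group G] [Finite G]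
    (hG : Nat.card G ∣ N) : Group.IsSolvable G := by
  by_contra h
  obtain ⟨H, K, hK, hs, hna, -⟩ := Cfsg.Agent.Classification.ThreePrimes.exists_section h
  have hna' : ¬ ∀ a b : H ⧸ K, a * b = b * a := fun h1 => hna ⟨⟨h1⟩⟩
  have hd : Nat.card (H ⧸ K) ∣ N :=
    (card_quotient_dvd_card K).trans ((card_subgroup_dvd_card H).trans hG)
  obtain ⟨g, hg, -⟩ := exists_real_filter table (hS (H ⧸ K)) hna' hv hd (fun _ => true) rfl
  rw [hc] at hg
  simp at hg

section Fit

variable {G : Type*} [Group G] [Finite G]

/-- The number of conjugates of an element of a normal subgroup. -/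
theorem index_centralizer_le {P : Subgroup G} (hn : P.Normal) {z : G} (hz : z ∈ P) :
    (centralizer ({z} : Set G)).index ≤ Nat.card P := by
  classical
  let f : G ⧸ centralizer ({z} : Set G) → P :=
    Quotient.lift (fun g : G => (⟨g * z * g⁻¹, hn.conj_mem z hz g⟩ : P)) (by
      intro a b hab
      have h1 : a⁻¹ * b ∈ centralizer ({z} : Set G) := QuotientGroup.leftRel_apply.1 hab
      have h2 := mem_centralizer_iff.1 h1 z rfl
      apply Subtype.ext
      show a * z * a⁻¹ = b * z * b⁻¹
      have h3 : a⁻¹ * b * z = z * (a⁻¹ * b) := h2.symm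
      calc a * z * a⁻¹ = a * (z * (a⁻¹ * b)) * b⁻¹ := by group
        _ = a * (a⁻¹ * b * z) * b⁻¹ := by rw [h3]
        _ = b * z * b⁻¹ := by group)
  have hf : Function.Injective f := by
    intro x y
    induction x using Quotient.inductionOn with | _ a => ?_
    induction y using Quotient.inductionOn with | _ b => ?_
    intro h
    have h1 : a * z * a⁻¹ = b * z * b⁻¹ := congrArg Subtype.val h
    apply Quotient.sound
    apply QuotientGroup.leftRel_apply.2
    rw [mem_centralizer_iff]
    intro y hy
    rw [Set.mem_singleton_iff.1 hy]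
    calc z * (a⁻¹ * b) = a⁻¹ * (a * z * a⁻¹) * b := by group
      _ = a⁻¹ * (b * z * b⁻¹) * b := by rw [h1]
      _ = a⁻¹ * b * z := by group
  exact Nat.card_le_card_of_injective f hf

/-- The sharper bound: `z ≠ 1`. -/
theorem index_centralizer_lt {P : Subgroup G} (hn : P.Normal) {z : G} (hz : z ∈ P) (hz1 : z ≠ 1) :
    (centralizer ({z} : Set G)).index + 1 ≤ Nat.card P := by
  classical
  let f : Option (G ⧸ centralizer ({z} : Set G)) → P := fun o => o.elim 1
    (Quotient.lift (fun g : G => (⟨g * z * g⁻¹, hn.conj_mem z hz g⟩ : P)) (by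
      intro a b hab
      have h1 : a⁻¹ * b ∈ centralizer ({z} : Set G) := QuotientGroup.leftRel_apply.1 hab
      have h2 := mem_centralizer_iff.1 h1 z rfl
      apply Subtype.ext
      show a * z * a⁻¹ = b * z * b⁻¹
      have h3 : a⁻¹ * b * z = z * (a⁻¹ * b) := h2.symm
      calc a * z * a⁻¹ = a * (z * (a⁻¹ * b)) * b⁻¹ := by group
        _ = a * (a⁻¹ * b * z) * b⁻¹ := by rw [h3]
        _ = b * z * b⁻¹ := by group))
  have hne : ∀ a : G, a * z * a⁻¹ ≠ 1 := by
    intro a h
    apply hz1
    calc z = a⁻¹ * (a * z * a⁻¹) * a := by group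
      _ = 1 := by rw [h]; group
  have hf : Function.Injective f := by
    intro x y
    rcases x with _ | x <;> rcases y with _ | y
    · intro _; rfl
    · induction y using Quotient.inductionOn with | _ b => ?_
      intro h
      exact absurd (congrArg Subtype.val h).symm (hne b)
    · induction x using Quotient.inductionOn with | _ b => ?_
      intro h
      exact absurd (congrArg Subtype.val h) (hne b)
    · induction x using Quotient.inductionOn with | _ a => ?_
      induction y using Quotient.inductionOn with | _ b => ?_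
      intro h
      have h1 : a * z * a⁻¹ = b * z * b⁻¹ := congrArg Subtype.val h
      congr 1
      apply Quotient.sound
      apply QuotientGroup.leftRel_apply.2
      rw [mem_centralizer_iff]
      intro y hy
      rw [Set.mem_singleton_iff.1 hy]
      calc z * (a⁻¹ * b) = a⁻¹ * (a * z * a⁻¹) * b := by group
        _ = a⁻¹ * (b * z * b⁻¹) * b := by rw [h1]
        _ = a⁻¹ * b * z := by group
  have h := Nat.card_le_card_of_injective f hf
  rwa [Finite.card_option] at h

/-- A prime divisor of the order of the Fitting subgroup divides the order of its core. -/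
theorem pCore_ne_bot_of_dvd {r : ℕ} [Fact r.Prime] (h : r ∣ Nat.card (fittingSubgroup G)) : pCore r G ≠ ⊥ := by
  intro h0
  obtain ⟨x, hx⟩ := exists_prime_orderOf_dvd_card' r h
  have h1 : IsPGroup r (zpowers (x : G)) := by
    apply IsPGroup.of_card (n := 1)
    rw [Nat.card_zpowers, Subgroup.orderOf_coe, hx, pow_one]
  have h2 := Cfsg.Agent.OddOrderLocal.RankTwoFitting.le_pCore_of_le_fitting h1
    ((zpowers_le).2 x.2)
  rw [h0, le_bot_iff, zpowers_eq_bot] at h2
  rw [← Subgroup.orderOf_coe, h2, orderOf_one] at hx
  exact (Fact.out : r.Prime).one_lt.ne hx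

end Fit

end Cfsg.Agent.H660.KGL
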